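import Groth.Prelude.Def_W4bk6serrecg25LocSym
import Groth.Prelude.Def_W4bk4goldsch23FF
import Groth.Agent.CurveDVR.Stalk
import Groth.Agent.FF.Approx
import Groth.Agent.Allied.Basic
import Mathlib.AlgebraicGeometry.AlgClosed.Basic
import Mathlib.AlgebraicGeometry.Morphisms.Proper
import Mathlib.RingTheory.DedekindDomain.AdicValuation
import Mathlib.RingTheory.OrderOfVanishing.Noetherian

/-!
# Rational points of a smooth proper curve as places of its function field
-/

set_option autoImplicit false
universe u v

open CategoryTheory AlgebraicGeometry LocSym WithZero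

noncomputable section

namespace Groth.Agent.LocSymLib

variable {k : Type u} [Field k] [IsAlgClosed k] {X : Scheme.{u}} [IsIntegral X]
  {c : X ⟶ Spec (CommRingCat.of k)}

/-- The constants. -/
abbrev constAlg (c : X ⟶ Spec (CommRingCat.of k)) : Algebra k X.functionField :=
  (constFun c).toAlgebra

variable [IsProper c] [Smooth c]

theorem isClosed_pt (x : Pt c) : IsClosed ({x.pt} : Set X) :=
  (pointEquivClosedPoint c x).2

theorem pt_injective : Function.Injective (Pt.pt (c := c)) := fun x y h =>
  (pointEquivClosedPoint c).injective (Subtype.ext h)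

theorem exists_pt_eq {p : X} (hp : IsClosed ({p} : Set X)) : ∃ x : Pt c, x.pt = p :=
  ⟨(pointEquivClosedPoint c).symm ⟨p, hp⟩, pointOfClosedPoint_apply c p hp _⟩

variable (hdim : topologicalKrullDim X = 1)
include hdim

theorem dvr (x : Pt c) : IsDiscreteValuationRing (X.presheaf.stalk x.pt) :=
  CurveDVR.isDiscreteValuationRing_stalk c hdim (isClosed_pt x)

/-- The valuation at a rational point. -/
def val (x : Pt c) : Valuation X.functionField ℤᵐ⁰ :=
  haveI := dvr hdim x
  (IsDiscreteValuationRing.maximalIdeal (X.presheaf.stalk x.pt)).valuation X.functionField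

theorem ord_eq (x : Pt c) (g : X.functionField) : x.ord g = -log (val hdim x g) := by
  haveI := dvr hdim x
  rw [Pt.ord, CycAlg.ordFrac,
    dif_pos ⟨inferInstance, inferInstance, inferInstance, inferInstance⟩]
  have e : Ring.ordFrac (X.presheaf.stalk x.pt) g = (val hdim x g)⁻¹ := by
    rw [Ring.ordFrac_eq_inverse_comp_valuation]
    exact (congrFun MonoidWithZero.coe_inverse _).trans (Ring.inverse_eq_inv _)
  rw [e, ← log_inv]
  induction (val hdim x g)⁻¹ using WithZero.recZeroCoe with
  | zero => simp
  | coe a => rfl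

theorem germ_constFun (x : Pt c) (a : k) :
    ∃ r : X.presheaf.stalk x.pt, algebraMap _ X.functionField r = constFun c a ∧
      (a ≠ 0 → IsUnit r) := by
  let s : Γ(X, ⊤) := c.appTop ((Scheme.ΓSpecIso (CommRingCat.of k)).inv a)
  refine ⟨X.presheaf.germ ⊤ x.pt trivial s, ?_, fun ha => ?_⟩
  · exact (TopCat.Presheaf.germ_stalkSpecializes_apply X.presheaf (U := ⊤) trivial _ s)
  · exact (((isUnit_iff_ne_zero.2 ha).map (Scheme.ΓSpecIso (CommRingCat.of k)).inv.hom).map
      c.appTop.hom).map (X.presheaf.germ ⊤ x.pt trivial).hom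

theorem val_algebraMap_le (x : Pt c) (r : X.presheaf.stalk x.pt) :
    val hdim x (algebraMap _ X.functionField r) ≤ 1 := by
  haveI := dvr hdim x
  exact IsDedekindDomain.HeightOneSpectrum.valuation_le_one (IsDiscreteValuationRing.maximalIdeal (X.presheaf.stalk x.pt)) r

theorem val_constFun_le (x : Pt c) (a : k) : val hdim x (constFun c a) ≤ 1 := by
  obtain ⟨r, hr, -⟩ := germ_constFun hdim x a
  exact hr ▸ val_algebraMap_le hdim x r

/-- The place of a rational point. -/
def pl (x : Pt c) :
    letI := constAlg c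
    FunFld.Place k X.functionField :=
  letI := constAlg c
  ⟨val hdim x, fun a => val_constFun_le hdim x a, by
    haveI := dvr hdim x
    exact IsDedekindDomain.HeightOneSpectrum.valuation_surjective (K := X.functionField) (IsDiscreteValuationRing.maximalIdeal (X.presheaf.stalk x.pt))⟩

theorem pl_ord (x : Pt c) (g : X.functionField) :
    letI := constAlg c
    (pl hdim x).ord g = x.ord g :=
  (ord_eq hdim x g).symm

theorem mem_range_iff (x : Pt c) (g : X.functionField) :
    g ∈ (algebraMap (X.presheaf.stalk x.pt) X.functionField).range ↔ 0 ≤ x.ord g := by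
  haveI := dvr hdim x
  rw [ord_eq hdim]
  rcases eq_or_ne g 0 with rfl | hg
  · simp
  · have hne : val hdim x g ≠ 0 := (map_ne_zero _).2 hg
    rw [neg_nonneg, log_le_iff_le_exp hne, exp_zero]
    exact ⟨fun ⟨r, hr⟩ => hr ▸ val_algebraMap_le hdim x r,
      fun h => IsDiscreteValuationRing.exists_lift_of_le_one h⟩

theorem pl_injective :
    letI := constAlg c
    Function.Injective (pl (c := c) hdim) := by
  letI := constAlg c
  intro x y h
  haveI : X.IsSeparated := ⟨by rw [← Limits.terminal.comp_from c]; infer_instance⟩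
  refine pt_injective ?_
  have hr : (algebraMap (X.presheaf.stalk x.pt) X.functionField).range ≤
      (algebraMap (X.presheaf.stalk y.pt) X.functionField).range := fun g hg => by
    rw [mem_range_iff hdim, ← pl_ord hdim] at hg ⊢
    rwa [← h]
  have := Allied.specializes_of_range_le (x := x.pt) (y := y.pt) hr
  exact ((isClosed_pt y).closure_eq ▸ specializes_iff_mem_closure.1 this : x.pt ∈ ({y.pt} : Set X))

section Ord

variable (x : Pt c) {g h : X.functionField}

theorem ord_mul (hg : g ≠ 0) (hh : h ≠ 0) : x.ord (g * h) = x.ord g + x.ord h := by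
  letI := constAlg c
  simpa only [pl_ord] using FF.ord_mul (pl hdim x) hg hh

theorem ord_inv (g : X.functionField) : x.ord g⁻¹ = -x.ord g := by
  letI := constAlg c
  simpa only [pl_ord] using FF.ord_inv (pl hdim x) g

theorem ord_div (hg : g ≠ 0) (hh : h ≠ 0) : x.ord (g / h) = x.ord g - x.ord h := by
  letI := constAlg c
  simpa only [pl_ord] using FF.ord_div (pl hdim x) hg hh

theorem ord_one : x.ord (1 : X.functionField) = 0 := by
  letI := constAlg c
  simpa only [pl_ord] using FF.ord_one (pl hdim x)

theorem ord_zpow (g : X.functionField) (n : ℤ) : x.ord (g ^ n) = n * x.ord g := by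
  letI := constAlg c
  simpa only [pl_ord] using FF.ord_zpow (pl hdim x) g n

theorem ord_const (a : k) : x.ord (constFun c a) = 0 := by
  letI := constAlg c
  have := FF.ord_const (pl hdim x) a
  rwa [pl_ord] at this

theorem ord_neg (g : X.functionField) : x.ord (-g) = x.ord g := by
  rw [ord_eq hdim, ord_eq hdim, Valuation.map_neg]

theorem val_eq (hg : g ≠ 0) : val hdim x g = exp (-x.ord g) := by
  rw [ord_eq hdim, neg_neg, exp_log ((map_ne_zero _).2 hg)]

theorem le_ord_iff (hg : g ≠ 0) (n : ℤ) : n ≤ x.ord g ↔ val hdim x g ≤ exp (-n) := by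
  rw [val_eq hdim x hg, exp_le_exp, neg_le_neg_iff]

theorem ord_eq_zero_of_lt (hg : g ≠ 0) (h1 : 0 < x.ord (1 - g)) : x.ord g = 0 := by
  rcases eq_or_ne (1 - g) 0 with e | e
  · rw [e] at h1
    simp [ord_eq hdim] at h1
  have : val hdim x g = 1 := by
    have hlt : val hdim x (g - 1) < 1 := by
      rw [← neg_sub, Valuation.map_neg, val_eq hdim x e, ← exp_zero, exp_lt_exp]
      omega
    simpa using Valuation.map_one_add_of_lt _ hlt
  rw [ord_eq hdim, this, log_one, neg_zero]

end Ord

/-- A closed point is not the generic point. -/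
theorem pt_ne_genericPoint (x : Pt c) : x.pt ≠ genericPoint X := fun h => by
  haveI := dvr hdim x
  exact IsDiscreteValuationRing.not_isField (X.presheaf.stalk x.pt)
    (h ▸ Field.toIsField X.functionField)

theorem finite_ord_ne_zero {g : X.functionField} (hg : g ≠ 0) :
    {x : Pt c | x.ord g ≠ 0}.Finite := by
  haveI : IsLocallyNoetherian X := LocallyOfFiniteType.isLocallyNoetherian c
  haveI : CompactSpace X := (quasiCompact_iff_compactSpace c).mp inferInstance
  haveI : IsNoetherian X := ⟨⟩
  obtain ⟨U, -, s, hne, hs, hu⟩ := exists_isUnit_germ_eq X g hg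
  have hfin : ((U : Set X)ᶜ ∩ closedPoints X).Finite := by
    obtain ⟨S, hSf, hSc, hS, hSi⟩ :=
      TopologicalSpace.NoetherianSpace.exists_finite_set_isClosed_irreducible U.2.isClosed_compl
    refine (Set.Finite.biUnion (t := fun Z => Z ∩ closedPoints X) hSf fun Z hZ => ?_).subset
      fun p hp => ?_
    rotate_left
    · obtain ⟨Z, hZ, hpZ⟩ := Set.mem_sUnion.1 (hSi ▸ hp.1)
      exact Set.mem_biUnion hZ ⟨hpZ, hp.2⟩
    · obtain ⟨η, hη⟩ := QuasiSober.sober (hS Z hZ) (hSc Z hZ)
      refine (Set.finite_singleton η).subset fun p hp => ?_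
      have hle : Z ⊆ (U : Set X)ᶜ := hSi ▸ Set.subset_sUnion_of_mem hZ
      obtain ⟨x, hx⟩ := exists_pt_eq (c := c) hp.2
      have hηp : η ⤳ p := hη.specializes hp.1
      rcases eq_or_ne η p with e | e
      · exact e.symm
      · exfalso
        have hη0 : η ≠ genericPoint X := fun h => by
          have h1 : genericPoint X ∈ U :=
            (((genericPoint_spec X).mem_open_set_iff U.2).2 ⟨_, trivial, hne.some.2⟩)
          exact hle hη.mem (h ▸ h1)
        subst hx
        haveI := dvr hdim x
        have hco := CurveDVR.coheight_eq_one c hdim (isClosed_pt x)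
        have h2 : (x.pt : X) < η := lt_of_le_not_ge hηp fun (h : η ≤ x.pt) => e (Specializes.antisymm hηp (h : x.pt ⤳ η)).eq
        have h3 : η < genericPoint X := lt_of_le_not_ge ((genericPoint_spec X).specializes trivial)
          fun (h : genericPoint X ≤ η) => hη0 (Specializes.antisymm (h : η ⤳ genericPoint X)
            ((genericPoint_spec X).specializes trivial)).eq
        have h4 := Order.coheight_add_one_le h2
        have h5 := Order.coheight_add_one_le h3
        rw [hco] at h4
        have : (1 : ℕ∞) ≤ Order.coheight η := le_trans (by simp) h5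
        have : (1 : ℕ∞) + 1 ≤ 1 := le_trans (add_le_add_left this 1) h4
        exact absurd this (by norm_num)
  refine ((hfin.subset ?_).of_finite_image pt_injective.injOn)
  rintro _ ⟨x, hx, rfl⟩
  refine ⟨fun hxU => hx ?_, isClosed_pt x⟩
  haveI := dvr hdim x
  have hr : algebraMap (X.presheaf.stalk x.pt) X.functionField (X.presheaf.germ U x.pt hxU s) = g :=
    (TopCat.Presheaf.germ_stalkSpecializes_apply X.presheaf hxU _ s).trans hs
  have h1 : 0 ≤ x.ord g := (mem_range_iff hdim x g).1 ⟨_, hr⟩
  obtain ⟨v, hv⟩ := hu.map (X.presheaf.germ U x.pt hxU).hom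
  have h2 : 0 ≤ x.ord g⁻¹ := (mem_range_iff hdim x _).1 ⟨(↑v⁻¹ : _), by
    rw [← hr, map_units_inv]
    congr 2⟩
  rw [ord_inv hdim] at h2
  omega

/-- Weak approximation at finitely many rational points. -/
theorem approx (s : Finset (Pt c)) (a : Pt c → X.functionField) (n : Pt c → ℕ) :
    ∃ y : X.functionField, ∀ x ∈ s, y = a x ∨ (n x : ℤ) ≤ x.ord (y - a x) := by
  classical
  letI := constAlg c
  let a' : FunFld.Place k X.functionField → X.functionField := Function.extend (pl hdim) a 0
  let n' : FunFld.Place k X.functionField → ℤ := Function.extend (pl hdim) (fun x => -(n x : ℤ)) 0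
  obtain ⟨y, hy⟩ := FF.approx (s.image (pl hdim)) a' n'
  refine ⟨y, fun x hx => ?_⟩
  have h := hy _ (Finset.mem_image_of_mem _ hx)
  simp only [a', n', (pl_injective hdim).extend_apply] at h
  rcases eq_or_ne (y - a x) 0 with e | e
  · exact Or.inl (sub_eq_zero.1 e)
  · exact Or.inr ((le_ord_iff hdim x e _).2 h)

/-- A rational function without poles at rational points is constant. -/
theorem exists_eq_constFun {g : X.functionField} (h : ∀ x : Pt c, 0 ≤ x.ord g) :
    ∃ a : k, g = constFun c a := by
  haveI : CompactSpace X := (quasiCompact_iff_compactSpace c).mp inferInstance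
  have hloc : ∀ p : X, ∃ (W : X.Opens) (_ : p ∈ W) (hη : genericPoint X ∈ W) (s : Γ(X, W)),
      X.presheaf.germ W (genericPoint X) hη s = g := by
    intro p
    obtain ⟨q, hq, hqc⟩ := IsClosed.exists_closed_singleton
      (isClosed_closure (s := ({p} : Set X))) ⟨p, subset_closure rfl⟩
    obtain ⟨x, rfl⟩ := exists_pt_eq (c := c) hqc
    obtain ⟨r, hr⟩ := (mem_range_iff hdim x g).2 (h x)
    obtain ⟨W, hW, s, rfl⟩ := X.presheaf.exists_germ_eq r
    have hη : genericPoint X ∈ W := ((genericPoint_spec X).specializes trivial).mem_open W.2 hW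
    refine ⟨W, (specializes_iff_mem_closure.2 hq).mem_open W.2 hW, hη, s, ?_⟩
    rw [← hr]
    exact (TopCat.Presheaf.germ_stalkSpecializes_apply X.presheaf hW _ s).symm
  choose W hW hη s hs using hloc
  obtain ⟨t, ht, -⟩ := X.sheaf.existsUnique_gluing' W ⊤ (fun p => homOfLE le_top)
    (fun p _ => TopologicalSpace.Opens.mem_iSup.2 ⟨p, hW p⟩) s (fun p q => by
      refine germ_injective_of_isIntegral X (U := W p ⊓ W q) (genericPoint X) ⟨hη p, hη q⟩ ?_
      show X.presheaf.germ _ _ _ (X.presheaf.map _ (s p)) = X.presheaf.germ _ _ _ (X.presheaf.map _ (s q))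
      exact ((X.presheaf.germ_res_apply _ _ _ _).trans ((hs p).trans (hs q).symm)).trans
        (X.presheaf.germ_res_apply _ _ _ _).symm)
  have hg : X.presheaf.germ ⊤ (genericPoint X) trivial t = g := by
    rw [← hs (genericPoint X), ← ht (genericPoint X)]
    exact (X.presheaf.germ_res_apply _ _ (hη _) _).symm
  let F : k →+* Γ(X, ⊤) := c.appTop.hom.comp (Scheme.ΓSpecIso (CommRingCat.of k)).inv.hom
  letI := F.toAlgebra
  haveI : IsDomain Γ(X, ⊤) := inferInstance
  have hFi : F.IsIntegral := by
    have h1 := (finite_appTop_of_universallyClosed k c).comp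
      (RingHom.Finite.of_surjective _ (ConcreteCategory.bijective_of_isIso
        (Scheme.ΓSpecIso (CommRingCat.of k)).inv).2)
    exact RingHom.IsIntegral.of_finite h1
  haveI : Algebra.IsIntegral k Γ(X, ⊤) := ⟨hFi⟩
  obtain ⟨a, ha⟩ := (IsAlgClosed.algebraMap_bijective_of_isIntegral (k := k) (K := Γ(X, ⊤))).2 t
  exact ⟨a, by rw [← hg, ← ha]; rfl⟩

end Groth.Agent.LocSymLib
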