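import Groth.Agent.LocSymLib.Basic
import Groth.Prelude.Def_W4c1etcurveeff2PicMod

/-!
# Congruences, values and approximation on a smooth proper curve
-/

set_option autoImplicit false
universe u v

open CategoryTheory AlgebraicGeometry LocSym WithZero

noncomputable section

namespace Groth.Agent.LocSymLib

variable {k : Type u} [Field k] [IsAlgClosed k] {X : Scheme.{u}} [IsIntegral X]
  {c : X ⟶ Spec (CommRingCat.of k)} [IsProper c] [Smooth c]
  (hdim : topologicalKrullDim X = 1)

include hdim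

/-- Congruence to `1` to level `n`, as a valuation inequality. -/
theorem cong_iff (x : Pt c) (g : X.functionField) (n : ℕ) :
    (g = 1 ∨ (n : ℤ) ≤ x.ord (1 - g)) ↔ val hdim x (1 - g) ≤ exp (-(n : ℤ)) := by
  rcases eq_or_ne (1 - g) 0 with e | e
  · simp [e, (sub_eq_zero.1 e).symm]
  · have : g ≠ 1 := fun h => e (by rw [h, sub_self])
    simp [this, le_ord_iff hdim x e]

omit hdim in
theorem exp_neg_natCast_le_one (n : ℕ) : (exp (-(n : ℤ)) : ℤᵐ⁰) ≤ 1 := by
  rw [← exp_zero, exp_le_exp]; omega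

theorem val_eq_one_of_cong {x : Pt c} {g : X.functionField} {n : ℕ} (hn : 0 < n)
    (h : val hdim x (1 - g) ≤ exp (-(n : ℤ))) : val hdim x g = 1 := by
  have hlt : val hdim x (g - 1) < 1 := by
    rw [← neg_sub, Valuation.map_neg]
    exact h.trans_lt (by rw [← exp_zero, exp_lt_exp]; omega)
  simpa using Valuation.map_one_add_of_lt _ hlt

theorem cong_mul {x : Pt c} {g h : X.functionField} {n : ℕ}
    (hg : val hdim x (1 - g) ≤ exp (-(n : ℤ))) (hh : val hdim x (1 - h) ≤ exp (-(n : ℤ))) :
    val hdim x (1 - g * h) ≤ exp (-(n : ℤ)) := by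
  have hg1 : val hdim x g ≤ 1 := by
    rw [show g = 1 - (1 - g) by ring]
    exact Valuation.map_sub_le _ (le_of_eq (map_one _)) (hg.trans (exp_neg_natCast_le_one n))
  rw [show 1 - g * h = (1 - g) + g * (1 - h) by ring]
  refine Valuation.map_add_le _ hg ?_
  rw [map_mul]
  exact (mul_le_mul' hg1 hh).trans (one_mul _).le

theorem cong_inv {x : Pt c} {g : X.functionField} {n : ℕ} (hn : 0 < n)
    (hg : val hdim x (1 - g) ≤ exp (-(n : ℤ))) :
    val hdim x (1 - g⁻¹) ≤ exp (-(n : ℤ)) := by
  have h1 := val_eq_one_of_cong hdim hn hg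
  have hg0 : g ≠ 0 := fun h => by simp [h] at h1
  rw [show 1 - g⁻¹ = -(1 - g) * g⁻¹ by field_simp; ring, map_mul, Valuation.map_neg, map_inv₀, h1]
  simpa using hg

theorem ord_eq_zero_of_val {x : Pt c} {g : X.functionField} (h : val hdim x g = 1) : x.ord g = 0 := by
  rw [ord_eq hdim, h, log_one, neg_zero]

theorem ord_eq_zero_of_cong1At {m : Pt c →₀ ℕ} {x : Pt c} (hx : x ∈ m.support) {g : X.functionField}
    (h : Cong1At m x g) : x.ord g = 0 :=
  ord_eq_zero_of_val hdim (val_eq_one_of_cong hdim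
    (Nat.pos_of_ne_zero (Finsupp.mem_support_iff.1 hx)) ((cong_iff hdim x g (m x)).1 h))

/-- Approximation of nonzero functions in the multiplicative sense. -/
theorem exists_approx (s : Finset (Pt c)) (a : Pt c → X.functionField) (ha : ∀ x ∈ s, a x ≠ 0)
    (n : Pt c → ℕ) :
    ∃ y : X.functionField, y ≠ 0 ∧ ∀ x ∈ s, val hdim x (1 - y / a x) ≤ exp (-(n x + 1 : ℕ) : ℤ) := by
  classical
  rcases s.eq_empty_or_nonempty with rfl | ⟨x₀, hx₀⟩
  · exact ⟨1, one_ne_zero, by simp⟩
  obtain ⟨y, hy⟩ := approx hdim s a fun x => ((n x + 1 : ℕ) + x.ord (a x)).toNat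
  have H : ∀ x ∈ s, val hdim x (1 - y / a x) ≤ exp (-(n x + 1 : ℕ) : ℤ) := by
    intro x hx
    rcases hy x hx with e | e
    · simp [e, ha x hx]
    · rcases eq_or_ne (y - a x) 0 with h | h
      · simp [sub_eq_zero.1 h, ha x hx]
      have h2 : ((n x + 1 : ℕ) : ℤ) ≤ x.ord (1 - y / a x) := by
        rw [show 1 - y / a x = -(y - a x) / a x by field_simp [ha x hx]; ring,
          ord_div hdim x (neg_ne_zero.2 h) (ha x hx), ord_neg hdim]
        omega
      exact (cong_iff hdim x _ _).1 (Or.inr h2)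
  refine ⟨y, fun h => ?_, H⟩
  have h1 := val_eq_one_of_cong hdim (Nat.succ_pos _) (H x₀ hx₀)
  simp [h] at h1

theorem finite_mulSupport_evalDiv {G : Type v} [CommGroup G] (m : Pt c →₀ ℕ) (f : Pt c → G)
    {g : X.functionField} (hg : g ≠ 0) :
    open Classical in
    (Function.mulSupport fun x : Pt c => if x ∈ m.support then (1 : G) else f x ^ x.ord g).Finite := by
  classical
  refine (finite_ord_ne_zero hdim hg).subset fun x hx h => hx ?_
  show (if x ∈ m.support then (1 : G) else f x ^ x.ord g) = 1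
  split_ifs <;> simp [h]

theorem evalDiv_mul {G : Type v} [CommGroup G] (m : Pt c →₀ ℕ) (f : Pt c → G)
    {g h : X.functionField} (hg : g ≠ 0) (hh : h ≠ 0) :
    evalDiv m f (g * h) = evalDiv m f g * evalDiv m f h := by
  classical
  rw [evalDiv, evalDiv, evalDiv, ← finprod_mul_distrib (finite_mulSupport_evalDiv hdim m f hg)
    (finite_mulSupport_evalDiv hdim m f hh)]
  refine finprod_congr fun x => ?_
  rw [ord_mul hdim x hg hh]
  split_ifs <;> simp [zpow_add]

theorem evalDiv_one {G : Type v} [CommGroup G] (m : Pt c →₀ ℕ) (f : Pt c → G) :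
    evalDiv m f (1 : X.functionField) = 1 := by
  classical
  rw [evalDiv]
  exact finprod_eq_one_of_forall_eq_one fun x => by split_ifs <;> simp [ord_one hdim]

/-- `f((g))` as a homomorphism. -/
def evalHom {G : Type v} [CommGroup G] (m : Pt c →₀ ℕ) (f : Pt c → G) :
    (X.functionField)ˣ →* G where
  toFun g := evalDiv m f (g : X.functionField)
  map_one' := by rw [Units.val_one, evalDiv_one hdim]
  map_mul' g h := by rw [Units.val_mul, evalDiv_mul hdim m f g.ne_zero h.ne_zero]

omit hdim in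
theorem chi_constFun (x : Pt c) (a : k) :
    Scheme.stalkClosedPointTo x.1 (X.presheaf.germ ⊤ x.pt trivial
      (c.appTop ((Scheme.ΓSpecIso (CommRingCat.of k)).inv a))) = a := by
  obtain ⟨p, hp⟩ := x
  show (X.presheaf.germ ⊤ (p (IsLocalRing.closedPoint k)) trivial ≫ Scheme.stalkClosedPointTo p).hom
    (c.appTop ((Scheme.ΓSpecIso (CommRingCat.of k)).inv a)) = a
  erw [Scheme.germ_stalkClosedPointTo]
  have h1 : p.appTop (c.appTop ((Scheme.ΓSpecIso (CommRingCat.of k)).inv a))
      = (Scheme.ΓSpecIso (CommRingCat.of k)).inv a := by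
    show (c.appTop ≫ p.appTop).hom _ = _
    rw [← Scheme.Hom.comp_appTop, hp]
    rfl
  simp only [CommRingCat.hom_comp, RingHom.comp_apply]
  erw [h1]
  show (((Spec (CommRingCat.of k)).presheaf.map (eqToIso _).hom.op) ≫
    (Scheme.ΓSpecIso (CommRingCat.of k)).hom).hom _ = a
  erw [show ((eqToIso (rfl : (⊤ : (Spec (CommRingCat.of k)).Opens) = ⊤)).hom.op) = 𝟙 _ from rfl,
    CategoryTheory.Functor.map_id, Category.id_comp]
  exact congr($((Scheme.ΓSpecIso (CommRingCat.of k)).inv_hom_id) a)

/-- A function regular at `x` differs from a constant by a function vanishing at `x`. -/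
theorem exists_val_sub_lt_one (x : Pt c) {g : X.functionField} (hg : 0 ≤ x.ord g) :
    ∃ a : k, val hdim x (g - constFun c a) < 1 := by
  haveI := dvr hdim x
  obtain ⟨r, rfl⟩ := (mem_range_iff hdim x g).2 hg
  let χ : X.presheaf.stalk x.pt →+* k := (Scheme.stalkClosedPointTo x.1).hom
  let s : X.presheaf.stalk x.pt :=
    X.presheaf.germ ⊤ x.pt trivial (c.appTop ((Scheme.ΓSpecIso (CommRingCat.of k)).inv (χ r)))
  have hs : algebraMap (X.presheaf.stalk x.pt) X.functionField s = constFun c (χ r) :=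
    TopCat.Presheaf.germ_stalkSpecializes_apply X.presheaf (U := ⊤) trivial _ _
  refine ⟨χ r, ?_⟩
  rw [← hs, ← map_sub]
  have hm : r - s ∈ IsLocalRing.maximalIdeal (X.presheaf.stalk x.pt) := by
    refine (IsLocalRing.le_maximalIdeal (RingHom.ker_ne_top χ)) ?_
    rw [RingHom.mem_ker, map_sub, sub_eq_zero]
    exact (chi_constFun x (χ r)).symm
  exact (IsDedekindDomain.HeightOneSpectrum.valuation_lt_one_iff_mem _ _).2 hm

theorem hasValueAt_iff (x : Pt c) (g : X.functionField) (a : k) :
    HasValueAt x g a ↔ val hdim x (g - constFun c a) < 1 := by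
  rcases eq_or_ne (g - constFun c a) 0 with e | e
  · simp [HasValueAt, sub_eq_zero.1 e]
  · have h : g ≠ constFun c a := fun h => e (by rw [h, sub_self])
    simp only [HasValueAt, h, false_or]
    rw [val_eq hdim x e, ← exp_zero, exp_lt_exp]
    omega

theorem val_constFun (x : Pt c) {a : k} (ha : a ≠ 0) : val hdim x (constFun c a) = 1 := by
  rw [val_eq hdim x ((map_ne_zero _).2 ha), ord_const hdim, neg_zero, exp_zero]

theorem hasValueAt_unique {x : Pt c} {g : X.functionField} {a b : k} (ha : HasValueAt x g a)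
    (hb : HasValueAt x g b) : a = b := by
  by_contra hne
  rw [hasValueAt_iff hdim] at ha hb
  have h := Valuation.map_sub_lt _ hb ha
  rw [sub_sub_sub_cancel_left, ← map_sub, val_constFun hdim x (sub_ne_zero.2 hne)] at h
  exact lt_irrefl _ h

theorem exists_hasValueAt (x : Pt c) {g : X.functionField} (hg : g ≠ 0) (h0 : x.ord g = 0) :
    ∃ a : kˣ, HasValueAt x g (a : k) := by
  obtain ⟨a, ha⟩ := exists_val_sub_lt_one hdim x h0.ge
  have ha0 : a ≠ 0 := fun h => by
    rw [h, map_zero, sub_zero, val_eq hdim x hg, h0, neg_zero, exp_zero] at ha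
    exact lt_irrefl _ ha
  exact ⟨Units.mk0 a ha0, (hasValueAt_iff hdim x g a).2 ha⟩

theorem hasValueAt_iff_cong (x : Pt c) (g : X.functionField) {a : k} (ha : a ≠ 0) :
    HasValueAt x g a ↔ val hdim x (1 - g / constFun c a) ≤ exp (-(1 : ℕ) : ℤ) := by
  have hc : constFun c a ≠ 0 := (map_ne_zero _).2 ha
  rw [hasValueAt_iff hdim, show 1 - g / constFun c a = -(g - constFun c a) / constFun c a by
      field_simp; ring, map_div₀, Valuation.map_neg, val_constFun hdim x ha, div_one, ← exp_zero,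
    FF.lt_exp_iff]
  simp

end Groth.Agent.LocSymLib
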